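import Mathlib.RingTheory.MvPolynomial.Basic
import Mathlib.Algebra.MvPolynomial.Division
import Mathlib.Tactic.LinearCombination
import Mathlib.Tactic.Ring

/-!
# Elementary facts on `XY - c`
-/

set_option autoImplicit false

namespace Groth.Agent.NodeTriv28

open MvPolynomial

universe u

variable {R : Type u} [CommRing R]

/-- `XY - c`. -/
noncomputable def G (c : R) : MvPolynomial (Fin 2) R := X 0 * X 1 - C c

noncomputable def e0 : Fin 2 →₀ ℕ := Finsupp.single 0 1 + Finsupp.single 1 1

theorem G_mul_eq_zero {c : R} {g : MvPolynomial (Fin 2) R} (h : G c * g = 0) : g = 0 := by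
  classical
  have hrec : ∀ m, coeff m g = c * coeff (e0 + m) g := by
    intro m
    have h1 := congrArg (coeff (e0 + m)) h
    rwa [G, sub_mul, coeff_sub, coeff_zero, coeff_C_mul, X, X, monomial_mul, one_mul, ← e0,
      coeff_monomial_mul, one_mul, sub_eq_zero] at h1
  have hit : ∀ (n : ℕ) m, coeff m g = c ^ n * coeff (n • e0 + m) g := by
    intro n
    induction n with
    | zero => intro m; simp
    | succ n ih =>
      intro m
      rw [ih m, hrec (n • e0 + m), ← mul_assoc, ← pow_succ, succ_nsmul', add_assoc]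
  ext m
  rw [coeff_zero, hit (g.totalDegree + 1) m, coeff_eq_zero_of_totalDegree_lt, mul_zero]
  have e1 : ((g.totalDegree + 1) • e0 + m) 0 = g.totalDegree + 1 + m 0 := by simp [e0]
  calc g.totalDegree < ((g.totalDegree + 1) • e0 + m) 0 := by omega
    _ ≤ _ := by
      refine Finset.single_le_sum (fun i _ => Nat.zero_le _) ?_
      rw [Finsupp.mem_support_iff]; omega

/-- An element killed by both variables modulo `XY - c` is a multiple of `XY - c`. -/
theorem exists_eq_G_mul {c : R} {f g h : MvPolynomial (Fin 2) R} (hX : X 0 * f = G c * g) (hY : X 1 * f = G c * h) :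
    ∃ g', f = G c * g' := by
  classical
  have e1 : X 1 * g = X 0 * h := by
    refine sub_eq_zero.1 (G_mul_eq_zero (c := c) ?_)
    linear_combination (-(X 1 : MvPolynomial (Fin 2) R)) * hX + (X 0 : MvPolynomial (Fin 2) R) * hY
  obtain ⟨g', rfl⟩ : (X 0 : MvPolynomial (Fin 2) R) ∣ g := by
    rw [X_dvd_iff_modMonomial_eq_zero]
    ext m
    by_cases hm : Finsupp.single (0 : Fin 2) 1 ≤ m
    · rw [coeff_modMonomial_of_le _ hm, coeff_zero]
    · rw [coeff_modMonomial_of_not_le _ hm, coeff_zero]
      have h0 : m 0 = 0 := by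
        simp only [Finsupp.single_le_iff] at hm
        omega
      have h1 := congrArg (coeff (Finsupp.single 1 1 + m)) e1
      rw [coeff_X_mul, coeff_X_mul', if_neg (by simp [h0])] at h1
      exact h1
  refine ⟨g', ?_⟩
  have h2 : (X 0 : MvPolynomial (Fin 2) R) * (f - G c * g') = 0 := by linear_combination hX
  refine sub_eq_zero.1 ?_
  ext m
  have h3 := congrArg (coeff (Finsupp.single 0 1 + m)) h2
  rwa [coeff_X_mul, coeff_zero] at h3

end Groth.Agent.NodeTriv28
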